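import Mathlib
import Cfsg.Agent.Lib.Helper36.Stu.Defs

/-!
# STU (S2318), package [QUAD]

The quadratic relation `q z² = τ (1 + z ∑ c i)` forces `|z| ≥ 1/q`, with equality only for
`z = -1/q`, `τ = 1` and all `c i = 1`.
-/

set_option autoImplicit false

namespace Cfsg.Agent.Lib.Helper47.Stu

open Cfsg.Agent.Lib.Helper36.Stu

universe v

/-- **[QUAD]** -/
theorem pkgQuad : PkgQuad.{v} := by
  intro ι _ q z τ c i₀ hq hτ hc hc0 heq
  classical
  have hq1 : (1 : ℝ) ≤ (Fintype.card ι : ℝ) := by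
    exact_mod_cast Fintype.card_pos_iff.2 ⟨i₀⟩
  have hqR : (q : ℝ) = (Fintype.card ι : ℝ) + 1 := by
    rw [← hq]; push_cast; ring
  have hqpos : (0 : ℝ) < q := by rw [hqR]; linarith
  obtain ⟨r, hr⟩ : ∃ r : ℝ, r = ‖z‖ := ⟨_, rfl⟩
  have hr0 : 0 ≤ r := hr ▸ norm_nonneg z
  have h1 : (q : ℝ) * r ^ 2 = ‖1 + z * ∑ i, c i‖ := by
    have h := congrArg norm heq
    rw [norm_mul, norm_mul, norm_pow, hτ, one_mul, Complex.norm_natCast, ← hr] at h
    exact h
  have h2 : ∀ i, -r ≤ (z * c i).re := by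
    intro i
    have h := Complex.abs_re_le_norm (z * c i)
    rw [norm_mul, hc i, mul_one, ← hr] at h
    exact (abs_le.1 h).1
  have h3 : (1 + z * ∑ i, c i).re = 1 + ∑ i, (z * c i).re := by
    rw [Complex.add_re, Complex.one_re, Finset.mul_sum, Complex.re_sum]
  have h4 : (1 + z * ∑ i, c i).re ≤ ‖1 + z * ∑ i, c i‖ := Complex.re_le_norm _
  have h5 : ∑ _i : ι, (-r) ≤ ∑ i, (z * c i).re := Finset.sum_le_sum (fun i _ => h2 i)
  have h5' : ∑ _i : ι, (-r) = -(((q : ℝ) - 1) * r) := by
    rw [Finset.sum_const, Finset.card_univ, nsmul_eq_mul, hqR]; ring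
  have h6 : 1 - ((q : ℝ) - 1) * r ≤ (q : ℝ) * r ^ 2 := by
    rw [h1]
    rw [h3] at h4
    linarith
  have h7 : ((q : ℝ) * r - 1) * (r + 1) = (q : ℝ) * r ^ 2 + ((q : ℝ) - 1) * r - 1 := by ring
  constructor
  · rw [hr.symm, div_le_iff₀ hqpos]
    by_contra hlt
    have hlt' : r * (q : ℝ) < 1 := not_le.1 hlt
    have h8 : ((q : ℝ) * r - 1) * (r + 1) < 0 :=
      mul_neg_of_neg_of_pos (by linarith) (by linarith)
    linarith
  · intro hreq
    rw [← hr] at hreq
    have hqr : (q : ℝ) * r = 1 := by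
      rw [hreq]; field_simp
    have hrpos : 0 < r := by rw [hreq]; positivity
    -- all the inequalities are equalities
    have h9 : ∑ i, (z * c i).re = ∑ _i : ι, (-r) := by
      apply le_antisymm _ h5
      rw [h5']
      rw [h3] at h4
      have h10 : (q : ℝ) * r ^ 2 = r := by
        calc (q : ℝ) * r ^ 2 = ((q : ℝ) * r) * r := by ring
          _ = r := by rw [hqr, one_mul]
      have h11 : ((q : ℝ) - 1) * r = 1 - r := by
        calc ((q : ℝ) - 1) * r = (q : ℝ) * r - r := by ring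
          _ = 1 - r := by rw [hqr]
      rw [← h1, h10] at h4
      linarith
    have h10 : ∀ i, (z * c i).re = -r := by
      intro i
      have h := (Finset.sum_eq_sum_iff_of_le (fun i _ => h2 i)).1 h9.symm i (Finset.mem_univ i)
      exact h.symm
    have h11 : ∀ i, z * c i = ((-r : ℝ) : ℂ) := by
      intro i
      have hn : ‖z * c i‖ = r := by rw [norm_mul, hc i, mul_one, hr]
      have him := Complex.sq_norm_sub_sq_re (z * c i)
      rw [hn, h10 i] at him
      have him0 : (z * c i).im = 0 := by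
        have : (z * c i).im ^ 2 = 0 := by rw [← him]; ring
        exact pow_eq_zero_iff (two_ne_zero) |>.1 this
      apply Complex.ext
      · rw [h10 i, Complex.ofReal_re]
      · rw [him0, Complex.ofReal_im]
    have hz : z = ((-r : ℝ) : ℂ) := by
      have h := h11 i₀
      rwa [hc0, mul_one] at h
    have hz0 : z ≠ 0 := by
      rw [hz]
      intro h
      have h' : (-r : ℝ) = 0 := by exact_mod_cast h
      linarith
    have hall : ∀ i, c i = 1 := by
      intro i
      have h := h11 i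
      rw [← hz] at h
      exact mul_left_cancel₀ hz0 (by rw [h, mul_one])
    have hqC : (q : ℂ) ≠ 0 := by
      exact_mod_cast hqpos.ne'
    have hzq : z = -1 / (q : ℂ) := by
      rw [hz, hreq]
      push_cast
      ring
    refine ⟨hzq, ?_, hall⟩
    have hS : ∑ i, c i = (q : ℂ) - 1 := by
      rw [Finset.sum_congr rfl (fun i _ => hall i), Finset.sum_const, Finset.card_univ,
        nsmul_eq_mul, mul_one, ← hq]
      push_cast
      ring
    rw [hzq, hS] at heq
    have e1 : (q : ℂ) * (-1 / (q : ℂ)) ^ 2 = 1 / (q : ℂ) := by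
      field_simp
    have e2 : (1 + (-1 / (q : ℂ)) * ((q : ℂ) - 1)) = 1 / (q : ℂ) := by
      field_simp
      ring
    rw [e1, e2] at heq
    have hne : (1 / (q : ℂ)) ≠ 0 := one_div_ne_zero hqC
    exact (mul_right_cancel₀ hne (by rw [one_mul]; exact heq)).symm

end Cfsg.Agent.Lib.Helper47.Stu
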